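import Groth.Agent.LefAlg.CIPic.Stalk
import Groth.Agent.PnCI.Cohomology
import Groth.Agent.RefRank.PicProjSpaceUFD
import Groth.Agent.S2949
import Groth.Agent.CohBase.AffinePush
import Groth.Agent.Chow.VeryAmplePn
import Groth.Agent.Ega2Proj.AmpleBasic
import Groth.Agent.Variety2.ProjBasics
import Groth.Agent.Ega2Proj.QuasiAffineAmple

/-!
# Pic of complete intersections of dimension at least three
-/

set_option autoImplicit false

universe u

open CategoryTheory CategoryTheory.Limits AlgebraicGeometry TopologicalSpace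
open Groth.PicAux

namespace Groth.CIPic

open Groth.PnCI

variable {k : Type u} [Field k] {n : ℕ}

local notation "ℙ" => CohB1.ProjSpace n k
local notation "O(" d ")" => Twist.twistProjSpace n k d

/-- Pic is freely generated by the restriction of `O(1)`. -/
def PicTw {Z : Scheme.{u}} (g : Z ⟶ ℙ) : Prop :=
  (∀ L : Z.Modules, PicF.IsInvertible L →
      ∃ e : ℤ, Nonempty (L ≅ (Scheme.Modules.pullback g).obj O(e))) ∧
    ∀ e : ℤ, Nonempty ((Scheme.Modules.pullback g).obj O(e) ≅ Coh.structureModule Z) → e = 0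

theorem PicTw.comp_iso {Z Z' : Scheme.{u}} {g : Z ⟶ ℙ} (h : PicTw g) (d : Z' ⟶ Z) [IsIso d]
    {g' : Z' ⟶ ℙ} (hg : d ≫ g = g') : PicTw g' := by
  subst hg
  constructor
  · intro L hL
    obtain ⟨e, ⟨a⟩⟩ := h.1 _ (isInvertible_pullback (inv d) hL)
    exact ⟨e, ⟨((Scheme.Modules.pullbackId Z').app L).symm ≪≫
      (Scheme.Modules.pullbackCongr (IsIso.hom_inv_id d).symm).app L ≪≫
      ((Scheme.Modules.pullbackComp d (inv d)).app L).symm ≪≫
      (Scheme.Modules.pullback d).mapIso a ≪≫ (Scheme.Modules.pullbackComp d g).app _⟩⟩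
  · rintro e ⟨a⟩
    have := isIso_pullUnit (inv d)
    refine h.2 e ⟨?_⟩
    exact (Scheme.Modules.pullbackCongr (IsIso.inv_hom_id_assoc d g).symm).app _ ≪≫
      ((Scheme.Modules.pullbackComp (inv d) (d ≫ g)).app _).symm ≪≫
      (Scheme.Modules.pullback (inv d)).mapIso a ≪≫ asIso (pullUnit (inv d))

theorem nonempty_twist_tensorPow (t : ℤ) : ∀ m : ℕ,
    Nonempty (CohB1.tensorPow O(t) m ≅ O(((m : ℤ) * t)))
  | 0 => by
    obtain ⟨e⟩ := Groth.Duality.Pn.nonempty_twist_zero_iso' n k
    exact ⟨e.symm ≪≫ eqToIso (congrArg (Twist.twistProjSpace n k) (by simp))⟩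
  | m + 1 => by
    obtain ⟨e⟩ := nonempty_twist_tensorPow t m
    obtain ⟨e'⟩ := Groth.Duality.Pn.nonempty_twist_tensor n k ((m : ℤ) * t) t
    exact ⟨PicGrp.tensorModIso e (Iso.refl _) ≪≫ e' ≪≫
      eqToIso (congrArg (Twist.twistProjSpace n k) (by push_cast; ring))⟩

theorem isAmple_twist_pos {a : ℕ} (ha : 0 < a) : CohB1.IsAmple (O((a : ℤ))) := by
  have : CompactSpace ↥(ℙ) := QuasiCompact.compactSpace_of_compactSpace (CohB1.ProjSpace.toSpec n k)
  have h1 : CohB1.IsAmple (O(1)) := Groth.Chow.isAmple_O1 n k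
  obtain ⟨e⟩ := nonempty_twist_tensorPow (n := n) (k := k) 1 a
  exact Groth.Ega2Proj.isAmple_of_iso (e ≪≫ eqToIso (congrArg (Twist.twistProjSpace n k) (mul_one _)))
    ((Groth.Ega2Proj.isAmple_tensorPow_iff h1.1 a ha).1 h1)

theorem false_of_twist_neg (h0 : 0 < n) {e : ℤ} (he : e < 0) (a : O(e) ≅ Coh.structureModule ℙ) :
    False := by
  have h1 : Subsingleton (Coh.HH ℙ O(e) 0) :=
    Groth.PnCoh.subsingleton_HH_twist (n := n) (R := k) e 0 (fun h => absurd h.2 (by omega))
      (fun h => absurd h.1 (by omega))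
  have h2 : Subsingleton (Coh.HH ℙ (Coh.structureModule ℙ) 0) :=
    Groth.PnCI.subsingleton_congr a.symm 0 h1
  have h4 : Subsingleton Γ(ℙ, ⊤) :=
    (Sheaf.H.equiv₀ (Coh.toAb (Coh.structureModule ℙ)) (T := (⊤ : (ℙ).Opens)) isTerminalTop).symm.subsingleton
  have := Groth.Duality.Pn.irreducibleSpace_projSpace n k
  obtain ⟨x⟩ : Nonempty ↥(ℙ) := inferInstance
  have h5 := congrArg ((ℙ).presheaf.germ ⊤ x trivial) (Subsingleton.elim (1 : Γ(ℙ, ⊤)) 0)
  rw [map_one, map_zero] at h5
  exact one_ne_zero h5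

theorem picTw_id (h0 : 0 < n) {Z : Scheme.{u}} (g : Z ⟶ ℙ) [IsIso g] : PicTw g := by
  refine PicTw.comp_iso (g := 𝟙 ℙ) ⟨fun L hL => ?_, fun e ⟨a⟩ => ?_⟩ g (Category.comp_id g)
  · obtain ⟨e, ⟨a⟩⟩ := Groth.RefRank.PicUFD.exists_iso_twist (n := n) (k := k) L hL
    exact ⟨e, ⟨a ≪≫ ((Scheme.Modules.pullbackId _).app _).symm⟩⟩
  · have b : O(e) ≅ Coh.structureModule ℙ := ((Scheme.Modules.pullbackId _).app _).symm ≪≫ a
    rcases lt_trichotomy e 0 with he | he | he
    · exact (false_of_twist_neg h0 he b).elim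
    · exact he
    · obtain ⟨c⟩ := Groth.Duality.Pn.isInverseOf_twist n k e
      exact (false_of_twist_neg h0 (show -e < 0 by omega)
        ((exists_leftUnitor _).choose.symm ≪≫ PicGrp.tensorModIso b.symm (Iso.refl _) ≪≫ c)).elim

/-- Intermediate cohomology of the twists on a complete intersection. -/
theorem subsingleton_ci_twist {r : ℕ} {a : Fin r → ℕ} (ha : ∀ j, 0 < a j)
    (G : ∀ j, LefPen.Form n k (a j)) (h : Good G) (t : ℤ) (p : ℕ) (hp : 0 < p) (hpn : p < n - r) :
    Subsingleton (Coh.HH (LefPen.ciIdeal G).subscheme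
      ((Scheme.Modules.pullback (LefPen.ciIdeal G).subschemeι).obj O(t)) p) := by
  have h1 := (Groth.PnCI.main r a ha G h).1 t p hp hpn
  have := Groth.KTheory.LocFree.isQCoh (Groth.LocFree.isFinLocFree_pullback (LefPen.ciIdeal G).subschemeι
    (Groth.LefAlg.isFinLocFree_of_isInvertible' (Groth.PnCoh.isInvertible_twist n k t)))
  obtain ⟨e⟩ := Groth.CohBase.nonempty_equiv_H_push (LefPen.ciIdeal G).subschemeι
    ((Scheme.Modules.pullback (LefPen.ciIdeal G).subschemeι).obj O(t)) p
  exact e.toEquiv.subsingleton_congr.1 h1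

theorem picTw_ci : ∀ (r : ℕ) (a : Fin r → ℕ), (∀ j, 0 < a j) → ∀ G : ∀ j, LefPen.Form n k (a j),
    Good G → r + 3 ≤ n → PicTw (LefPen.ciIdeal G).subschemeι := by
  intro r
  induction r with
  | zero =>
    intro a ha G _ hn
    have h0 : (LefPen.ciIdeal G) = ⊥ := iSup_of_empty _
    let s := IsClosedImmersion.lift (LefPen.ciIdeal G).subschemeι (𝟙 ℙ)
      (by rw [Scheme.IdealSheafData.ker_subschemeι, h0]; exact bot_le)
    have hs : s ≫ (LefPen.ciIdeal G).subschemeι = 𝟙 ℙ := IsClosedImmersion.lift_fac _ _ _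
    have : IsIso (LefPen.ciIdeal G).subschemeι := ⟨s,
      by rw [← cancel_mono (LefPen.ciIdeal G).subschemeι, Category.assoc, hs, Category.comp_id,
        Category.id_comp], hs⟩
    exact picTw_id (by omega) _
  | succ r ih =>
    intro a ha G h hn
    have ha' : ∀ j : Fin r, 0 < a j.castSucc := fun j => ha j.castSucc
    have h' := good_init ha h
    have hIH := ih _ ha' (fun j => G j.castSucc) h' (by omega)
    let I₀ := LefPen.ciIdeal fun j : Fin r => G j.castSucc
    let ι := I₀.subschemeι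
    let X := I₀.subscheme
    let f := ι ≫ CohB1.ProjSpace.toSpec n k
    let _ : X.Over (Spec (CommRingCat.of k)) := ⟨f⟩
    have : IsProper (CohB1.ProjSpace.toSpec n k) := Groth.Variety2.isProper_projSpace_toSpec n k
    have : IsProper (X ↘ Spec (CommRingCat.of k)) := inferInstanceAs (IsProper f)
    have : IsLocallyNoetherian X := LocallyOfFiniteType.isLocallyNoetherian (X ↘ Spec (CommRingCat.of k))
    let D := (LefPen.hypIdeal (G (Fin.last r))).comap ι
    let q : ℕ := a (Fin.last r)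
    obtain ⟨eI⟩ := nonempty_idealMod_step ha h
    let L : X.Modules := (Scheme.Modules.pullback ι).obj O((q : ℤ))
    obtain ⟨u⟩ := Groth.Duality.Pn.isInverseOf_twist n k (q : ℤ)
    obtain ⟨u', -⟩ := exists_pullback_tensorMod ι O((q : ℤ)) O(-(q : ℤ))
    have := isIso_pullUnit ι
    have hL : ClSub.IsInverseOf L (ClSub.idealMod D) :=
      ⟨PicGrp.tensorModIso (Iso.refl _) eI ≪≫ u'.symm ≪≫ (Scheme.Modules.pullback ι).mapIso u ≪≫
        asIso (pullUnit ι)⟩
    have hamp : CohB1.IsAmple L :=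
      Groth.Chow.isAmple_pullback_of_isAffineHom ι (isAmple_twist_pos (ha (Fin.last r)))
    have hpow : ∀ m : ℕ, Nonempty (CohB1.tensorPow (ClSub.idealMod D) m ≅
        (Scheme.Modules.pullback ι).obj O(((m : ℤ) * -(q : ℤ)))) := fun m => by
      obtain ⟨e₁⟩ := nonempty_tensorPow_iso eI m
      obtain ⟨e₂⟩ := pullback_tensorPow ι O(-(q : ℤ)) m
      obtain ⟨e₃⟩ := nonempty_twist_tensorPow (n := n) (k := k) (-(q : ℤ)) m
      exact ⟨e₁ ≪≫ e₂.symm ≪≫ (Scheme.Modules.pullback ι).mapIso e₃⟩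
    have hdepth : ∀ x : X, IsClosed ({x} : Set X) →
        (2 : ℕ∞) ≤ LocCoh.depth (X.presheaf.stalk x) (X.presheaf.stalk x) := fun x hx =>
      le_trans (by exact_mod_cast (show 2 ≤ n - r by omega)) (stalk_ci ha' _ h' x hx).2.2
    have hpf : ∀ x : X, IsClosed ({x} : Set X) → x ∉ (D.support : Set X) →
        ∀ N : (↑(FEt.puncturedSpec (X.presheaf.stalk x)) : Scheme.{u}).Modules, PicF.IsInvertible N →
          Nonempty (N ≅ Coh.structureModule _) := fun x hx _ => by
      obtain ⟨hci, hdim, -⟩ := stalk_ci ha' _ h' x hx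
      exact ((Groth.Agent.S2824.result _).1 (Groth.Agent.S3353.result _ hci
        (le_trans (by exact_mod_cast (show 4 ≤ n - r by omega)) hdim))).2
    have hH : ∀ m : ℕ, 1 ≤ m → ∀ i : ℕ, (i = 1 ∨ i = 2) → Subsingleton (Coh.HH X
        ((DCoh.tensorBi.obj (CohB1.tensorPow (ClSub.idealMod D) m)).obj (ClSub.quotMod D)) i) := by
      intro m _ i hi
      have hK := isInvertible_tensorPow (isInvertible_of_isInverseOf hamp.1 hL) m
      have hS := shortExact_idealMod_twist D hK
      set S := (ShortComplex.mk (ClSub.idealModι D) (ClSub.toSubscheme D)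
        (kernel.condition (ClSub.toSubscheme D))).map (DCoh.tensorRightMod (CohB1.tensorPow (ClSub.idealMod D) m))
      obtain ⟨e₂⟩ := hpow m
      obtain ⟨e₁⟩ := hpow (m + 1)
      have hB : Subsingleton (Coh.HH X S.X₂ i) :=
        Groth.PnCI.subsingleton_congr ((exists_leftUnitor _).choose ≪≫ e₂) i
          (subsingleton_ci_twist ha' _ h' _ i (by omega) (by omega))
      have hA : Subsingleton (Coh.HH X S.X₁ (i + 1)) :=
        Groth.PnCI.subsingleton_congr ((exists_braiding _ _).choose ≪≫ e₁) (i + 1)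
          (subsingleton_ci_twist ha' _ h' _ (i + 1) (by omega) (by omega))
      have hC : Subsingleton (Coh.HH X S.X₃ i) := by
        refine subsingleton_of_forall_eq 0 fun c => ?_
        obtain ⟨y, hy⟩ := (Groth.EulerDeg.exact_right k hS i c).1 (Subsingleton.elim (h := hA) _ _)
        rw [← hy, Subsingleton.elim (h := hB) y 0, map_zero]
      exact Groth.PnCI.subsingleton_congr (exists_braiding _ _).choose i hC
    obtain ⟨hinj, hsurj⟩ := Groth.Agent.S2949.result k X D L hL hamp hdepth hH hpf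
    have hD : PicTw (D.subschemeι ≫ ι) := by
      constructor
      · intro N hN
        obtain ⟨M, hM, ⟨b⟩⟩ := hsurj N hN
        obtain ⟨e, ⟨c⟩⟩ := hIH.1 M hM
        exact ⟨e, ⟨b.symm ≪≫ (Scheme.Modules.pullback D.subschemeι).mapIso c ≪≫
          (Scheme.Modules.pullbackComp D.subschemeι ι).app _⟩⟩
      · rintro e ⟨b⟩
        have := isIso_pullUnit D.subschemeι
        exact hIH.2 e (hinj _ (Coh.structureModule X)
          (isInvertible_pullback ι (Groth.PnCoh.isInvertible_twist n k e))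
          (Groth.Ega2Proj.isInvertible_structure X)
          ⟨(Scheme.Modules.pullbackComp D.subschemeι ι).app _ ≪≫ b ≪≫
            (asIso (pullUnit D.subschemeι)).symm⟩)
    let g := D.subschemeι ≫ ι
    have hker : (LefPen.ciIdeal G).subschemeι.ker = g.ker :=
      (Scheme.IdealSheafData.ker_subschemeι _).trans (ker_step (G := G)).symm
    let d := IsClosedImmersion.lift g (LefPen.ciIdeal G).subschemeι hker.ge
    have hd : d ≫ g = (LefPen.ciIdeal G).subschemeι := IsClosedImmersion.lift_fac _ _ _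
    let d' := IsClosedImmersion.lift (LefPen.ciIdeal G).subschemeι g hker.le
    have hd' : d' ≫ (LefPen.ciIdeal G).subschemeι = g := IsClosedImmersion.lift_fac _ _ _
    have : IsIso d := ⟨d',
      by rw [← cancel_mono (LefPen.ciIdeal G).subschemeι, Category.assoc, hd', hd, Category.id_comp],
      by rw [← cancel_mono g, Category.assoc, hd, hd', Category.id_comp]⟩
    exact hD.comp_iso d hd

end Groth.CIPic
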