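import Groth.Agent.PnCI.Conormal
import Groth.Agent.Calg6.ProperStalk
import Groth.Agent.Calg4.RegularAscent
import Groth.Agent.LefAlg.RelVan.FibreDepth
import Groth.Agent.S3353
import Groth.Agent.Ega4Algebra1.HullRegular

/-!
# Local rings of complete intersections in projective space at closed points
-/

set_option autoImplicit false

universe u

open CategoryTheory CategoryTheory.Limits AlgebraicGeometry TopologicalSpace

namespace Groth.CIPic

open Groth.PnCI

variable {k : Type u} [Field k] {n r : ℕ}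

/-- At a closed point: an absolute complete intersection of dimension and depth `n - r`. -/
theorem stalk_ci {a : Fin r → ℕ} (ha : ∀ j, 0 < a j) (G : ∀ j, LefPen.Form n k (a j)) (h : Good G)
    (z : (LefPen.ciIdeal G).subscheme) (hz : IsClosed ({z} : Set (LefPen.ciIdeal G).subscheme)) :
    SGA2.IsAbsCompleteIntersection ((LefPen.ciIdeal G).subscheme.presheaf.stalk z) ∧
      ((n - r : ℕ) : WithBot ℕ∞) ≤ ringKrullDim ((LefPen.ciIdeal G).subscheme.presheaf.stalk z) ∧
      ((n - r : ℕ) : ℕ∞) ≤ LocCoh.depth ((LefPen.ciIdeal G).subscheme.presheaf.stalk z)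
        ((LefPen.ciIdeal G).subscheme.presheaf.stalk z) := by
  let I := LefPen.ciIdeal G
  have : IsLocallyNoetherian (CohB1.ProjSpace n k) :=
    LocallyOfFiniteType.isLocallyNoetherian (CohB1.ProjSpace.toSpec n k)
  have : IsLocallyNoetherian I.subscheme := LocallyOfFiniteType.isLocallyNoetherian I.subschemeι
  let x := I.subschemeι z
  have hx : IsClosed ({x} : Set (CohB1.ProjSpace n k)) := by
    simpa [Set.image_singleton] using I.subschemeι.isClosedEmbedding.isClosedMap _ hz
  obtain ⟨i, hi⟩ := exists_mem_chart (k := k) (n := n) x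
  let U := LefPen.chart n k i
  have hU : IsAffineOpen U := isAffineOpen_chart i
  let B := (CohB1.ProjSpace n k).presheaf.stalk x
  have hreg : IsRegularLocalRing B := Groth.Duality.Pn.isRegularLocalRing_stalk n k x
  let φ := ((CohB1.ProjSpace n k).presheaf.germ U x hi).hom
  let _ : Algebra Γ(CohB1.ProjSpace n k, U) B := φ.toAlgebra
  have : Module.Flat Γ(CohB1.ProjSpace n k, U) B := by
    let p := hU.primeIdealOf ⟨x, hi⟩
    have : IsLocalization.AtPrime B p.asIdeal := hU.isLocalization_stalk ⟨x, hi⟩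
    exact IsLocalization.flat B p.asIdeal.primeCompl
  let rs : List B := (List.ofFn fun j => LefPen.dehom (G j) i).map φ
  have hideal : IntMult.stalkIdeal I x = Ideal.ofList rs := by
    rw [Groth.ParaFormal.stalkIdeal_eq I (chartAff i) hi, ideal_ci_chart, Ideal.map_span, Ideal.ofList]
    congr 1
    ext c
    simp [rs, φ, U]
    exact Iff.rfl
  have hx' : x ∈ I.support := by
    have : x ∈ Set.range I.subschemeι := ⟨z, rfl⟩
    rwa [Scheme.IdealSheafData.range_subschemeι] at this
  have hmem : ∀ c ∈ rs, c ∈ IsLocalRing.maximalIdeal B := fun c hc =>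
    IsLocalRing.le_maximalIdeal (hideal ▸ Groth.Calg6.ProperStalk.stalkIdeal_ne_top I hx')
      (Ideal.subset_span hc)
  have hw : RingTheory.Sequence.IsWeaklyRegular B rs :=
    (isWeaklyRegular_chart r a ha G h i).of_flat
  have hR : RingTheory.Sequence.IsRegular B rs :=
    (IsLocalRing.isRegular_iff_isWeaklyRegular_of_subset_maximalIdeal hmem).2 hw
  obtain ⟨e₀⟩ := Groth.Calg6.ProperStalk.exists_stalk_equiv I z
  let e : I.subscheme.presheaf.stalk z ≃+* B ⧸ Ideal.ofList rs :=
    e₀.symm.trans (Ideal.quotEquivOfEq hideal)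
  have hlen : rs.length = r := by simp [rs]
  have : IsLocalRing (B ⧸ Ideal.ofList rs) := e.isLocalRing
  have hdimB : ringKrullDim B = n := Groth.Duality.Pn.ringKrullDim_stalk n k hx
  have hdepB : LocCoh.depth B B = n := by
    have := (Groth.Calg4.isCohenMacaulayLocalRing_iff_dim_eq B).1
      (Groth.Calg4.isCohenMacaulayLocalRing_of_isRegularLocalRing B)
    rw [hdimB] at this
    exact WithBot.coe_injective this.symm
  refine ⟨⟨B, inferInstance, hreg, rs, hmem, hR, ⟨e⟩⟩, ?_, ?_⟩
  · have h1 := ringKrullDim_add_length_eq_ringKrullDim_of_isRegular rs hR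
    rw [hlen, hdimB] at h1
    rw [ringKrullDim_eq_of_ringEquiv e]
    refine (ENat.WithBot.add_le_add_natCast_right_iff (c := r)).1 ?_
    rw [h1, ← Nat.cast_add, Nat.sub_add_cancel h.1]
  · have h1 := Groth.Ega4Algebra1.idealDepth_quotient_ofList (IsLocalRing.maximalIdeal B) rs B
      (Groth.LocCohBase.smul_maximalIdeal_ne_top B (IsLocalRing.maximalIdeal.isMaximal B).ne_top) hw hmem
    have h2 : LocCoh.depth B (B ⧸ (Ideal.ofList rs • ⊤ : Submodule B B)) =
        LocCoh.depth (B ⧸ Ideal.ofList rs) (B ⧸ Ideal.ofList rs) :=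
      (Groth.LocCohBase.idealDepth_congr (Submodule.quotEquivOfEq _ _ (Ideal.mul_top _))).trans
        (Groth.Smt.depth_eq_of_surjective B (B ⧸ Ideal.ofList rs) Ideal.Quotient.mk_surjective)
    change LocCoh.depth B (B ⧸ (Ideal.ofList rs • ⊤ : Submodule B B)) + rs.length = LocCoh.depth B B at h1
    rw [h2, hlen, hdepB] at h1
    refine le_trans ?_ (Groth.ParaFormal.FsReduce.depth_le_of_ringEquiv e.symm)
    refine (ENat.add_le_add_iff_right (ENat.natCast_ne_top r)).1 ?_
    rw [h1, ← Nat.cast_add, Nat.sub_add_cancel h.1]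

end Groth.CIPic
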